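import Cfsg.Agent.H287.SL3.Perf
import Cfsg.Agent.Mrg.Omega.Lie.PairRee
import Cfsg.Agent.S0495

/-!
# S4855, `q = 2` (helper287), second part: perfect central extensions of `PSL₂(7)` in a group with degrees `1, 3, 6, 7, 8`
-/

set_option autoImplicit false

namespace Cfsg.Agent.H287.SLThree

open Cfsg Cfsg.Agent.Characters Cfsg.Agent.Characters.Core Cfsg.Agent.H681 Cfsg.Agent.H681.DegBasic
open Cfsg.Agent.H686.CharKit Cfsg.Agent.H691 Cfsg.Agent.H672
open Cfsg.Agent.Lib.SL2Mat Cfsg.Agent.Lib.AutSL2 Cfsg.Agent.Classification.QDW.TypeHom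
open scoped commutatorElement

universe u v

instance fact7 : Fact (Nat.Prime 7) := ⟨by norm_num⟩

local notation "SL7" => Matrix.SpecialLinearGroup (Fin 2) (ZMod 7)
local notation "PSL7" => Matrix.ProjectiveSpecialLinearGroup (Fin 2) (ZMod 7)

theorem card7 : Fintype.card (ZMod 7) = 7 := ZMod.card 7

/-- the unipotent element -/
def uu : SL7 := mk 1 1 0 1 (by ring)

theorem uu_pow : uu ^ 7 = 1 := by
  apply Subtype.ext
  decide +kernel

/-- an automorphism of `SL₂(7)` which maps `u` to a conjugate is inner -/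
theorem inner_of_isConj_uu (α : MulAut SL7) (h : IsConj (α uu) uu) : ∃ s : SL7, ∀ x, α x = s * x * s⁻¹ := by
  have h1 : typ α = 1 := by
    have : Subsingleton (ZMod 7 ≃+* ZMod 7) := ⟨fun a b => by
      ext x
      obtain ⟨k, rfl⟩ := ZMod.natCast_zmod_surjective x
      rw [map_natCast, map_natCast]⟩
    exact Subsingleton.elim _ _
  obtain ⟨g, rfl⟩ := (typ_eq_one_iff α).1 h1
  obtain ⟨c, hc⟩ := isConj_iff.1 h.symm
  -- `c u c⁻¹ = g u g⁻¹`
  have hm : c.1 * uu.1 * (c⁻¹).1 = g.1 * uu.1 * g⁻¹.1 := by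
    have := congrArg Subtype.val hc
    rw [conjGL_val] at this
    exact this
  set k : Matrix (Fin 2) (Fin 2) (ZMod 7) := (c⁻¹).1 * g.1 with hk
  have hcc : (c⁻¹).1 * c.1 = 1 := by
    have := congrArg Subtype.val (inv_mul_cancel c)
    exact this
  have hku : k * uu.1 = uu.1 * k := by
    have e1 : (c⁻¹).1 * (c.1 * uu.1 * (c⁻¹).1) * g.1 = (c⁻¹).1 * (g.1 * uu.1 * g⁻¹.1) * g.1 := by rw [hm]
    have e2 : (c⁻¹).1 * (c.1 * uu.1 * (c⁻¹).1) * g.1 = ((c⁻¹).1 * c.1) * uu.1 * k := by
      rw [hk]; simp only [Matrix.mul_assoc]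
    have e3 : (c⁻¹).1 * (g.1 * uu.1 * g⁻¹.1) * g.1 = k * uu.1 * (g⁻¹.1 * g.1) := by
      rw [hk]; simp only [Matrix.mul_assoc]
    rw [e2, e3, hcc, Matrix.one_mul, inv_val_mul_val, Matrix.mul_one] at e1
    exact e1.symm
  have hu : uu.1 = !![1, 1; 0, 1] := rfl
  rw [hu] at hku
  have h00 := congrFun (congrFun hku 0) 0
  have h01 := congrFun (congrFun hku 0) 1
  simp only [Matrix.mul_apply, Fin.sum_univ_two] at h00 h01
  simp at h00 h01
  have hdet : g.1.det = (k 0 0) ^ 2 := by
    have e1 : k.det = g.1.det := by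
      rw [hk, Matrix.det_mul, (c⁻¹).2, one_mul]
    rw [← e1, Matrix.det_fin_two]
    have h10 : k 1 0 = 0 := by
      first
        | exact h00
        | linear_combination h00
        | linear_combination (-1 : ZMod 7) * h00
    have h11 : k 1 1 = k 0 0 := by
      first
        | linear_combination h01
        | linear_combination (-1 : ZMod 7) * h01
    rw [h10, h11]; ring
  have hd : k 0 0 ≠ 0 := by
    intro h0
    have hne : g.1.det ≠ 0 := (Matrix.GeneralLinearGroup.det g).ne_zero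
    rw [hdet, h0] at hne
    simp at hne
  exact Cfsg.Agent.Lib.AutSL2Out.conjGL_of_det_sq g (k 0 0) hd hdet

/-- the projection -/
abbrev pr : SL7 →* PSL7 := QuotientGroup.mk' (Subgroup.center SL7)

theorem pr_surj : Function.Surjective pr := QuotientGroup.mk'_surjective _

theorem ker_pr : pr.ker = Subgroup.center SL7 := QuotientGroup.ker_mk' _

theorem center_cases {x : SL7} (hx : x ∈ Subgroup.center SL7) : x = 1 ∨ x = H984.SLTwo.z0 :=
  Cfsg.Agent.H672.SL2Graph.mem_center_cases hx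

theorem z0_mem : (H984.SLTwo.z0 : SL7) ∈ Subgroup.center SL7 := by
  rw [Subgroup.mem_center_iff]
  intro g
  have h : ((H984.SLTwo.z0 : SL7) : Matrix (Fin 2) (Fin 2) (ZMod 7)) = -1 := by
    rw [H984.SLTwo.z0, H984.SLTwo.coe_upp]
    decide
  apply Matrix.SpecialLinearGroup.ext
  intro i j
  rw [Matrix.SpecialLinearGroup.coe_mul, Matrix.SpecialLinearGroup.coe_mul, h]
  simp

theorem z0_ne : (H984.SLTwo.z0 : SL7) ≠ 1 := by
  intro h
  have h1 := congrArg (fun x : SL7 => (x : Matrix (Fin 2) (Fin 2) (ZMod 7)) 0 0) h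
  simp only [H984.SLTwo.z0, H984.SLTwo.coe_upp] at h1
  revert h1
  decide

theorem sl_perfect : commutator SL7 = ⊤ := TwoFusion.SLTwoFacts.commutator_eq_top (by rw [card7]; norm_num)

theorem center_psl : Subgroup.center PSL7 = ⊥ :=
  (Cfsg.Agent.Omega.Lie.PairRee.psl_facts (F := ZMod 7) (by rw [Nat.card_eq_fintype_card, card7]; norm_num)).2.1

/-- two homomorphisms of a perfect group which agree modulo a central kernel are equal -/
theorem hom_ext_of_central {S : Type*} [Group S] {N : Type*} [Group N] {Q : Type*} [Group Q] (hS : commutator S = ⊤)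
    (f : N →* Q) (hf : f.ker ≤ Subgroup.center N) (φ ψ : S →* N) (h : ∀ x, f (φ x) = f (ψ x)) : φ = ψ := by
  have hc : ∀ x, φ x * (ψ x)⁻¹ ∈ Subgroup.center N := fun x => hf (by
    rw [MonoidHom.mem_ker, map_mul, map_inv, h, mul_inv_cancel])
  let δ : S →* Subgroup.center N :=
    { toFun := fun x => ⟨φ x * (ψ x)⁻¹, hc x⟩
      map_one' := Subtype.ext (by simp)
      map_mul' := fun x y => Subtype.ext (by
        change φ (x * y) * (ψ (x * y))⁻¹ = φ x * (ψ x)⁻¹ * (φ y * (ψ y)⁻¹)
        have h1 := Subgroup.mem_center_iff.1 (hc y) (φ x)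
        rw [map_mul, map_mul, mul_inv_rev]
        calc φ x * φ y * ((ψ y)⁻¹ * (ψ x)⁻¹) = φ x * (φ y * (ψ y)⁻¹) * (ψ x)⁻¹ := by group
          _ = φ y * (ψ y)⁻¹ * φ x * (ψ x)⁻¹ := by rw [h1]
          _ = φ y * (ψ y)⁻¹ * (φ x * (ψ x)⁻¹) := by group
          _ = φ x * (ψ x)⁻¹ * (φ y * (ψ y)⁻¹) := (Subgroup.mem_center_iff.1 (hc y) _).symm) }
  have h1 : commutator S ≤ δ.ker := by
    rw [commutator_def, Subgroup.commutator_le]
    intro x _ y _
    rw [MonoidHom.mem_ker, map_commutatorElement, commutatorElement_eq_one_iff_mul_comm]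
    exact Subtype.ext (Subgroup.mem_center_iff.1 (δ y).2 _)
  ext x
  have h2 : x ∈ δ.ker := h1 (hS ▸ Subgroup.mem_top x)
  have h3 : φ x * (ψ x)⁻¹ = 1 := congrArg Subtype.val (MonoidHom.mem_ker.1 h2)
  exact mul_inv_eq_one.1 h3

/-- no odd or characteristic covers of `SL₂(7)` -/
theorem noPCov {r : ℕ} (hr : r.Prime) : H67.NoPCov r SL7 := by
  have hc : Nat.card (ZMod 7) = 7 := by rw [Nat.card_eq_fintype_card, card7]
  refine H60.MultA.noPCov_SL ⟨le_rfl, fun _ => by omega, by
          simp only [Set.mem_insert_iff, Set.mem_singleton_iff, Prod.mk.injEq, not_or, not_and]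
          refine ⟨fun _ => by omega, fun _ => by omega, by norm_num, by norm_num, by norm_num⟩⟩ hr

/-! ### the degrees -/

/-- the degrees of the characters of `PSL₂(7)` -/
theorem degree_psl {ψ : PSL7 → ℂ} (hψ : IsIrrCharacter PSL7 ψ) :
    charDegree ψ = 1 ∨ charDegree ψ = 3 ∨ 6 ≤ charDegree ψ := by
  have hodd : Odd (Fintype.card (ZMod 7)) := by rw [card7]; decide
  have h1 : IsIrrCharacter SL7 (ψ ∘ pr) := isIrr_comp pr pr_surj hψ
  have h2 : (ψ ∘ pr) 1 = ((charDegree ψ : ℕ) : ℂ) := by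
    rw [coe_charDegree hψ, Function.comp_apply, map_one]
  have h3 := (S2299.result hodd).1 _ h1
  rw [h2, card7] at h3
  have e4 : (7 + 1) / 2 = 4 := by norm_num
  have e5 : (7 - 1) / 2 = 3 := by norm_num
  rw [e4, e5] at h3
  have h7 : charDegree ψ = 1 ∨ charDegree ψ = 7 ∨ charDegree ψ = 8 ∨ charDegree ψ = 6 ∨ charDegree ψ = 4 ∨
      charDegree ψ = 3 := by
    rcases h3 with h | h | h | h | h | h
    · left; exact_mod_cast h
    · right; left; exact_mod_cast h
    · right; right; left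
      have : ((charDegree ψ : ℕ) : ℂ) = ((8 : ℕ) : ℂ) := by rw [h]; norm_num
      exact_mod_cast this
    · right; right; right; left
      have : ((charDegree ψ : ℕ) : ℂ) = ((6 : ℕ) : ℂ) := by rw [h]; norm_num
      exact_mod_cast this
    · right; right; right; right; left; exact_mod_cast h
    · right; right; right; right; right; exact_mod_cast h
  by_cases h4 : charDegree ψ = 4
  · exfalso
    have h5 := H686.SLHalf.halves_plus (F := ZMod 7) (by
      have := ZMod.ringChar_zmod_n 7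
      rw [this]; norm_num) (m := 3) (by rw [card7]) (by norm_num) h1 (fun g => by
        have : pr (H984.SLTwo.z0 * g) = pr g := by
          rw [map_mul]
          have h6 : pr (H984.SLTwo.z0 : SL7) = 1 := by
            rw [← MonoidHom.mem_ker, ker_pr]; exact z0_mem
          rw [h6, one_mul]
        rw [Function.comp_apply, Function.comp_apply, this]) (by rw [h2, h4])
    exact absurd h5 (by decide)
  · omega

end Cfsg.Agent.H287.SLThree
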