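import Cfsg.Agent.H287.SL3.Three
import Cfsg.Agent.H3.CenT
import Cfsg.Agent.LieClassical.SLGen

/-!
# S4855, `q = 2` (helper287): the statement
-/

set_option autoImplicit false

open scoped commutatorElement

namespace Cfsg.Agent.H287.SLThree

open Cfsg Cfsg.Agent.Characters Cfsg.Agent.Characters.Core Cfsg.Agent.H681.DegBasic Cfsg.Agent.H686.CharKit
open Cfsg.Agent.H691 Cfsg.Agent.H691.Lie Cfsg.Agent.H691.Spor

universe u v

/-- `SL₃(2) ≅ PSL₂(7)` -/
theorem sl_three_two {F : Type v} [Field F] [Fintype F] (h2 : Fintype.card F = 2) :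
    Nonempty (Matrix.ProjectiveSpecialLinearGroup (Fin 2) (ZMod 7) ≃* Matrix.SpecialLinearGroup (Fin 3) F) := by
  classical
  have hs : IsSimpleGroup (Matrix.ProjectiveSpecialLinearGroup (Fin 3) F) :=
    LieClassical.SLGen.psl_isSimpleGroup (by simp)
  obtain ⟨e⟩ := S0495.result (G := Matrix.ProjectiveSpecialLinearGroup (Fin 3) F)
    (H3.CenT.card_psl_three_two h2) (F := ZMod 7) card7
  have hc : Subgroup.center (Matrix.SpecialLinearGroup (Fin 3) F) = ⊥ := by
    rw [eq_bot_iff]
    intro x hx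
    obtain ⟨r, hr, hrx⟩ := Matrix.SpecialLinearGroup.mem_center_iff.1 hx
    have hr0 : r ≠ 0 := by
      rintro rfl
      simp at hr
    have h1 : Fintype.card Fˣ = 1 := by rw [Fintype.card_units, h2]
    have hr1 : r = 1 := by
      have h3 := (Fintype.card_le_one_iff_subsingleton.1 h1.le).elim (Units.mk0 r hr0) 1
      exact congrArg Units.val h3
    rw [Subgroup.mem_bot]
    apply Subtype.ext
    rw [← hrx, hr1]
    simp
  have e1 : Matrix.SpecialLinearGroup (Fin 3) F ≃* Matrix.ProjectiveSpecialLinearGroup (Fin 3) F :=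
    MulEquiv.ofBijective (QuotientGroup.mk' (Subgroup.center (Matrix.SpecialLinearGroup (Fin 3) F)))
      ⟨by
        rw [← MonoidHom.ker_eq_bot_iff, QuotientGroup.ker_mk']
        exact hc, QuotientGroup.mk'_surjective _⟩
  exact ⟨(e1.trans e).symm⟩

/-- **S4855, `q = 2`**, modulo the classification and the data on sporadic groups. -/
theorem two_case (T : Cfsg.Agent.H691.Spor.TPs.{u})
    (hCF : ∀ (S : Type u) [Group S] [Finite S] [IsSimpleGroup S], IsKnownSimple' S)
    {G : Type u} [Group G] [Finite G] {F : Type v} [Field F] [Fintype F] (h2 : Fintype.card F = 2)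
    (hD : charDegrees G = {1, 3, 6, 7, 8}) :
    ∃ K A : Subgroup G, Nonempty (K ≃* Matrix.SpecialLinearGroup (Fin 3) F) ∧ IsMulCommutative A ∧
      A ≤ Subgroup.centralizer (K : Set G) ∧ K ⊔ A = ⊤ := by
  classical
  have hsub : charDegrees G ⊆ DS (7 ^ 1) := by
    rw [hD, pow_one]
    exact D_sub
  have h7 : 7 ^ 1 ∈ charDegrees G := by
    rw [hD]
    simp
  have hp : Nat.Prime 7 := by norm_num
  have hperf : ⁅commutator G, commutator G⁆ = commutator G := perfect_derived hD
  obtain ⟨N, hN⟩ : ∃ N : Subgroup G, N = commutator G := ⟨_, rfl⟩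
  have iN : N.Normal := by rw [hN]; infer_instance
  rw [← hN] at hperf
  have hNp : commutator N = ⊤ := by
    have h1 : (commutator N).map N.subtype = ⁅N, N⁆ := Subgroup.map_subtype_commutator N
    rw [hperf] at h1
    rw [eq_top_iff]
    intro x _
    have h2 : (x : G) ∈ (commutator N).map N.subtype := by rw [h1]; exact x.2
    obtain ⟨y, hy, hyx⟩ := h2
    have : y = x := Subtype.ext hyx
    rwa [← this]
  -- `N` is nontrivial
  have hNnt : Nontrivial N := by
    obtain ⟨θ, hθ, -, hθ1⟩ := H686.SlCentral.exists_under N hNp hN.symm h7 (by norm_num)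
    by_contra hcon
    rw [not_nontrivial_iff_subsingleton] at hcon
    apply hθ1
    have h1 := dvd_card (⟨⟨θ, hθ⟩, rfl⟩ : charDegree θ ∈ charDegrees N)
    rw [Nat.card_of_subsingleton (1 : N)] at h1
    exact Nat.dvd_one.1 h1
  obtain ⟨R₀, hR₀, hs⟩ := H677.CodMain.exists_simple_quotient (G := N)
  have hna : ¬ IsMulCommutative (N ⧸ R₀) := by
    have h1 : commutator (N ⧸ R₀) = ⊤ := by
      rw [commutator_def, ← Subgroup.map_top_of_surjective _ (QuotientGroup.mk'_surjective R₀),
        ← Subgroup.map_commutator, ← commutator_def, hNp]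
    exact Main.not_comm_of_perfect h1
  have hpd : 7 ∣ Nat.card (N ⧸ R₀) := p_dvd hp one_ne_zero hsub h7 N hNp hN.symm (by norm_num) R₀ hna
  have hE : ∀ (A : Type u) [Group A] [Finite A] (S : Subgroup A), AS A S → HasExt A S := by
    intro A _ _ S hAS
    have := hAS.simple
    exact Ident.known_hasExt T hAS (hCF S)
  have hRn : (R₀.map N.subtype).Normal :=
    ExtChar.top_of_hasExt N hN.ge R₀ hs hna hE (by norm_num) hsub
  set R : Subgroup G := R₀.map N.subtype with hR
  have hRN : R ≤ N := by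
    rintro _ ⟨n, -, rfl⟩
    exact n.2
  have hRsub : R.subgroupOf N = R₀ := by
    ext n
    rw [Subgroup.mem_subgroupOf]
    constructor
    · rintro ⟨m, hm, h⟩
      have : m = n := Subtype.ext h
      rwa [← this]
    · exact fun h => ⟨n, h, rfl⟩
  have hs' : IsSimpleGroup (N ⧸ R.subgroupOf N) :=
    (QuotientGroup.quotientMulEquivOfEq hRsub).isSimpleGroup
  have hna' : ¬ IsMulCommutative (N ⧸ R.subgroupOf N) := fun hc =>
    hna ⟨⟨fun a b => (QuotientGroup.quotientMulEquivOfEq hRsub).symm.injective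
      (by rw [map_mul, map_mul]; exact hc.is_comm.comm _ _)⟩⟩
  obtain ⟨hAS, e₁, -⟩ := AExt.exists_AS hRN hs' hna' hN.ge
  -- the socle is `PSL₂(7)`
  have hpS : 7 ∣ Nat.card (N.map (QuotientGroup.mk' (AExt.KK N R))) := by
    rw [← Nat.card_congr e₁.toEquiv, Nat.card_congr (QuotientGroup.quotientMulEquivOfEq hRsub).toEquiv]
    exact hpd
  have hDA : charDegrees (G ⧸ AExt.KK N R) ⊆ DS (7 ^ 1) := fun d hd =>
    hsub (charDegrees_comp (QuotientGroup.mk' (AExt.KK N R)) (QuotientGroup.mk'_surjective _) hd)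
  have hknown : IsKnownSimple' (N.map (QuotientGroup.mk' (AExt.KK N R))) := by
    have := hAS.simple
    exact hCF _
  obtain ⟨K, iK, iK', hKc, ⟨e₂⟩⟩ := Ident.ident T hAS hp (by norm_num) hpS hDA hknown
  have eF : K ≃+* ZMod 7 := FiniteField.ringEquivOfCardEq (by rw [hKc, card7, pow_one])
  let e : (N ⧸ R.subgroupOf N) ≃* Matrix.ProjectiveSpecialLinearGroup (Fin 2) (ZMod 7) :=
    (e₁.trans e₂).trans (LieClassical.FieldTransfer.pslCongr eF)
  have hRc : R ≤ Subgroup.centralizer (N : Set G) :=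
    H669.SlTwoE.central_of_psl (F := ZMod 7) (by rw [card7]; norm_num)
      (by rw [card7]; rw [pow_one] at hsub; exact hsub) N R hRN hperf e
  let f : N →* Matrix.ProjectiveSpecialLinearGroup (Fin 2) (ZMod 7) :=
    e.toMonoidHom.comp (QuotientGroup.mk' (R.subgroupOf N))
  have hf : Function.Surjective f := e.surjective.comp (QuotientGroup.mk'_surjective _)
  have hfc : f.ker ≤ Subgroup.center N := by
    intro x hx
    have h1 : e (QuotientGroup.mk x) = 1 := hx
    have h2 : (QuotientGroup.mk x : N ⧸ R.subgroupOf N) = 1 := by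
      rwa [EmbeddingLike.map_eq_one_iff] at h1
    have h3 : (x : G) ∈ R := (QuotientGroup.eq_one_iff x).1 h2
    have h4 := Subgroup.mem_centralizer_iff.1 (hRc h3)
    rw [Subgroup.mem_center_iff]
    intro y
    exact Subtype.ext (h4 y y.2)
  obtain ⟨⟨e₃⟩, h6, h8⟩ := final hD hNp hN.symm f hf hfc
  obtain ⟨e₄⟩ := sl_three_two h2
  exact ⟨N, Subgroup.centralizer (N : Set G), ⟨e₃.trans e₄⟩, h6, le_rfl, h8⟩

end Cfsg.Agent.H287.SLThree
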