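import Cfsg.Agent.H691.Main
import Cfsg.Agent.H691.T3.Defs

/-!
# S4855, `q = 2` (helper287), first part: `G'` is perfect; a lemma on the simple quotients of `G'`
-/

set_option autoImplicit false

namespace Cfsg.Agent.H287.SLThree

open Cfsg Cfsg.Agent.Characters Cfsg.Agent.Characters.Core Cfsg.Agent.H681 Cfsg.Agent.H681.DegBasic
open Cfsg.Agent.H686.CharKit Cfsg.Agent.H691

universe u v

theorem D_sub : ({1, 3, 6, 7, 8} : Set ℕ) ⊆ DS 7 := by
  intro d hd
  simp only [Set.mem_insert_iff, Set.mem_singleton_iff] at hd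
  rcases hd with rfl | rfl | rfl | rfl | rfl
  · exact Or.inl rfl
  · exact Or.inr (Or.inr (Or.inr (Or.inr (Or.inr (by norm_num)))))
  · exact Or.inr (Or.inr (Or.inl (by norm_num)))
  · exact Or.inr (Or.inl rfl)
  · exact Or.inr (Or.inr (Or.inr (Or.inl (by norm_num))))

/-- **The derived subgroup is perfect.** -/
theorem perfect_derived {G : Type u} [Group G] [Finite G] (hD : charDegrees G = {1, 3, 6, 7, 8}) :
    ⁅commutator G, commutator G⁆ = commutator G := by
  classical
  have := Fintype.ofFinite G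
  by_contra hcon
  obtain ⟨r, f, hr, hf, hc⟩ := H279.PerfDer.cases_of_not_perfect hcon
  have mem : ∀ n : ℕ, n ∈ charDegrees G ↔ (n = 1 ∨ n = 3 ∨ n = 6 ∨ n = 7 ∨ n = 8) := by
    intro n
    rw [hD]
    simp only [Set.mem_insert_iff, Set.mem_singleton_iff]
  have m3 : 3 ∈ charDegrees G := (mem 3).2 (by norm_num)
  have m7 : 7 ∈ charDegrees G := (mem 7).2 (by norm_num)
  have m8 : 8 ∈ charDegrees G := (mem 8).2 (by norm_num)
  have r7 : r ∣ 7 → r = 7 := fun h => (Nat.prime_dvd_prime_iff_eq hr (by norm_num)).1 h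
  have r3 : r ∣ 3 → r = 3 := fun h => (Nat.prime_dvd_prime_iff_eq hr (by norm_num)).1 h
  have r8 : r ∣ 8 → r = 2 := fun h =>
    (Nat.prime_dvd_prime_iff_eq hr (by norm_num)).1 (hr.dvd_of_dvd_pow (by simpa using h : r ∣ 2 ^ 3))
  rcases hc with ⟨-, hc⟩ | ⟨hfr, N, hN, hNf, hc⟩
  · rcases hc _ m7 with h1 | h1
    · have h2 := r7 h1
      rcases hc _ m8 with h3 | h3
      · have := r8 h3; omega
      · rw [mem] at h3; omega
    · rw [mem] at h1; omega
  · have := Fintype.ofFinite N
    have hbel : ∀ n ∈ charDegrees G, ∃ d ∈ charDegrees N, d ∣ n ∧ n / d ∣ f := by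
      intro n hn
      obtain ⟨χ, hχ, hχn⟩ := mem_charDegrees.1 hn
      obtain ⟨ψ, d, hψ, hψd, -, hd1, hd2⟩ := exists_constituent N hχ hχn
      rw [hNf] at hd2
      exact ⟨d, mem_charDegrees.2 ⟨ψ, hψ, hψd⟩, hd1, hd2⟩
    have hc' : ∀ d ∈ charDegrees N, r ∣ d ∨ f * d ∈ charDegrees G := by
      intro d hd
      obtain ⟨ψ, hψ, hψd⟩ := mem_charDegrees.1 hd
      exact hc ψ hψ d hψd
    have hfm : f ∈ charDegrees G := by
      rcases hc' 1 one_mem with h1 | h1
      · exact absurd (Nat.dvd_one.1 h1) hr.one_lt.ne'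
      · rwa [mul_one] at h1
    -- degrees coprime to `f`
    have key : ∀ n ∈ charDegrees G, n.Coprime f → 2 ≤ n → ¬ (f * n ∈ charDegrees G) → r ∣ n := by
      intro n hn hnc hn2 hno
      obtain ⟨d, hd, hd1, hd3⟩ := hbel n hn
      have h1 : n / d = 1 := Nat.eq_one_of_dvd_coprimes (hnc.coprime_dvd_left (Nat.div_dvd_of_dvd hd1)) dvd_rfl hd3
      have h2 : d = n := by
        have := Nat.div_mul_cancel hd1
        rw [h1, one_mul] at this
        exact this
      subst h2
      rcases hc' d hd with h3 | h3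
      · exact h3
      · exact absurd h3 hno
    rw [mem] at hfm
    rcases hfm with rfl | rfl | rfl | rfl | rfl
    · omega
    · have h1 := r7 (key 7 m7 (by norm_num) (by norm_num) (by rw [mem]; norm_num))
      have h2 := r8 (key 8 m8 (by norm_num) (by norm_num) (by rw [mem]; norm_num))
      omega
    · have h1 := r7 (key 7 m7 (by norm_num) (by norm_num) (by rw [mem]; norm_num))
      obtain ⟨d, hd, hd1, hd3⟩ := hbel 8 m8
      have hd8 : d ≤ 8 := Nat.le_of_dvd (by norm_num) hd1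
      have h4 := hc' d hd
      rw [mem, h1] at h4
      interval_cases d <;> simp_all
    · have h2 := r8 (key 8 m8 (by norm_num) (by norm_num) (by rw [mem]; norm_num))
      have h3 := r3 (key 3 m3 (by norm_num) (by norm_num) (by rw [mem]; norm_num))
      omega
    · have h1 := r7 (key 7 m7 (by norm_num) (by norm_num) (by rw [mem]; norm_num))
      have h3 := r3 (key 3 m3 (by norm_num) (by norm_num) (by rw [mem]; norm_num))
      omega

/-- **The characteristic divides the order of every simple quotient of `G'`.** -/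
theorem p_dvd {G : Type u} [Group G] [Finite G] {p f : ℕ} (hp : p.Prime) (hf : f ≠ 0)
    (hD : charDegrees G ⊆ DS (p ^ f)) (hq : p ^ f ∈ charDegrees G) (N : Subgroup G) [N.Normal]
    (hNp : commutator N = ⊤) (hG : commutator G = N)
    (h1 : p ^ f ≠ 1) (R : Subgroup N) [hR : R.Normal] (hna : ¬ IsMulCommutative (N ⧸ R)) :
    p ∣ Nat.card (N ⧸ R) := by
  classical
  by_contra hcon
  have hcop : ∀ m, m ∣ Nat.card (N ⧸ R) → ∀ k, m ∣ p ^ k → m = 1 := by
    intro m hm k hk
    obtain ⟨j, -, rfl⟩ := (Nat.dvd_prime_pow hp).1 hk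
    rcases Nat.eq_zero_or_pos j with rfl | hj
    · exact pow_zero p
    · exact (hcon ((dvd_pow_self p hj.ne').trans hm)).elim
  obtain ⟨θ, hθ, hθd, hθ1⟩ := H686.SlCentral.exists_under N hNp hG hq h1
  -- restriction to `R`
  obtain ⟨φ, hφ, hoφ⟩ := H672.exists_under (f := R.subtype) hθ
  obtain ⟨h2, h3⟩ := H672.charDegree_dvd_of_over R hθ hφ hoφ
  have h4 : charDegree θ / charDegree φ = 1 := by
    refine hcop _ ?_ f (dvd_trans (Nat.div_dvd_of_dvd h2) hθd)
    rw [Subgroup.index_eq_card] at h3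
    exact h3
  have h5 : charDegree φ = charDegree θ := by
    obtain ⟨k, hk⟩ := h2
    rw [hk, Nat.mul_div_cancel_left _ (H672.charDegree_pos hφ)] at h4
    rw [hk, h4, mul_one]
  have hθR : IsIrrCharacter R (θ ∘ R.subtype) := by
    rw [H672.eq_of_over_of_charDegree_eq hθ hφ hoφ h5]
    exact hφ
  -- Gallagher
  obtain ⟨b, hb, hb1⟩ := PDvd.exists_nonlinear hna
  have h6 : b * charDegree θ ∈ charDegrees N :=
    gallagher (QuotientGroup.mk' R) (QuotientGroup.mk'_surjective R) R
      (fun k hk => (QuotientGroup.eq_one_iff k).2 hk) hθ hθR (H672.coe_charDegree hθ).symm hb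
  obtain ⟨ψ, hψ⟩ := h6
  obtain ⟨d, hd, hψd⟩ := H686.SlCentral.exists_dvd N ψ.2
  rw [hψ] at hψd
  have hpd : p ∣ charDegree θ := by
    obtain ⟨j, -, hj⟩ := (Nat.dvd_prime_pow hp).1 hθd
    rw [hj]
    refine dvd_pow_self p ?_
    rintro rfl
    exact hθ1 (by rw [hj, pow_zero])
  have h7 : d = p ^ f := PDvd.eq_of_dvd_mem hp hf (hD hd) ((dvd_mul_of_dvd_right hpd b).trans hψd)
  rw [h7] at hψd
  exact hb1 (hcop b (dvd_card hb) f ((Dvd.intro _ rfl).trans hψd))

end Cfsg.Agent.H287.SLThree
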