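import Cfsg.Agent.H287.SL3.Two

/-!
# S4855, `q = 2` (helper287), fourth part: the centralizer of `G'` is abelian, `G' ≅ PSL₂(7)`
-/

set_option autoImplicit false

namespace Cfsg.Agent.H287.SLThree

open Cfsg Cfsg.Agent.Characters Cfsg.Agent.Characters.Core Cfsg.Agent.H681 Cfsg.Agent.H681.DegBasic
open Cfsg.Agent.H691 Cfsg.Agent.H672
open Cfsg.Agent.H279.CentProd
open scoped commutatorElement

universe u v

local notation "SL7" => Matrix.SpecialLinearGroup (Fin 2) (ZMod 7)
local notation "PSL7" => Matrix.ProjectiveSpecialLinearGroup (Fin 2) (ZMod 7)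

section main

variable {G : Type u} [Group G] [Finite G] {N : Subgroup G} [hN : N.Normal]

/-- If the derived subgroup is `SL₂(7)` then its centralizer is abelian. -/
theorem centralizer_comm_sl (hM : ∀ n ∈ charDegrees G, n ≤ 8) (hG : commutator G = N) (e : N ≃* SL7)
    (hsup : N ⊔ Subgroup.centralizer (N : Set G) = ⊤) (a b : Subgroup.centralizer (N : Set G)) :
    a * b = b * a := by
  classical
  subst hG
  by_contra hab
  have hnc : ¬ ∀ a b : Subgroup.centralizer (commutator G : Set G), a * b = b * a := fun h => hab (h a b)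
  rw [S0187.result] at hnc
  push Not at hnc
  obtain ⟨ψ, hψ1⟩ := hnc
  -- an element of the derived subgroup of the centralizer outside the kernel
  obtain ⟨c, hc, hcψ⟩ : ∃ c ∈ commutator (Subgroup.centralizer (commutator G : Set G)),
      (ψ : Subgroup.centralizer (commutator G : Set G) → ℂ) c ≠
        (ψ : Subgroup.centralizer (commutator G : Set G) → ℂ) 1 := by
    by_contra hcon
    push Not at hcon
    obtain ⟨χ', h1, h2⟩ := Cfsg.Agent.OddOrderCharacters.PF9.Reducible.exists_of_surjective
      (QuotientGroup.mk' (commutator (Subgroup.centralizer (commutator G : Set G))))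
      (QuotientGroup.mk'_surjective _) ψ.2 (fun g hg => hcon g ((QuotientGroup.eq_one_iff g).1 hg))
    have hab' : ∀ a b : (Subgroup.centralizer (commutator G : Set G)) ⧸
        commutator (Subgroup.centralizer (commutator G : Set G)), a * b = b * a :=
      fun a b => mul_comm (G := Abelianization (Subgroup.centralizer (commutator G : Set G))) a b
    have h3 := S0187.result.1 hab' ⟨χ', h1⟩
    apply hψ1
    rw [← h2 1, map_one]
    exact h3
  have hcG : (c : G) ∈ commutator G := by
    have h1 : ∀ C : Subgroup G, (commutator C).map C.subtype ≤ commutator G := by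
      intro C
      rw [commutator_def C, Subgroup.map_commutator, commutator_def]
      exact Subgroup.commutator_mono le_top le_top
    exact h1 _ ⟨c, hc, rfl⟩
  have hcz : ∀ n : G, n ∈ commutator G → n * c = c * n := fun n hn =>
    Subgroup.mem_centralizer_iff.1 c.2 n hn
  set z : commutator G := ⟨c, hcG⟩ with hz
  have hcne : c ≠ 1 := fun h => hcψ (by rw [h])
  have hzne : e z ≠ 1 := by
    intro h
    have h1 : z = 1 := e.injective (by rw [h, map_one])
    apply hcne
    apply Subtype.ext
    exact congrArg (fun x : commutator G => (x : G)) h1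
  have hzc : e z ∈ Subgroup.center SL7 := by
    rw [Subgroup.mem_center_iff]
    intro x
    have h1 : e.symm x * z = z * e.symm x := Subtype.ext (hcz _ (e.symm x).2)
    have h2 := congrArg e h1
    simpa using h2
  have hcases : ∀ x ∈ Subgroup.center SL7, x = 1 ∨ x = e z := by
    intro x hx
    rcases Cfsg.Agent.H672.SL2Graph.mem_center_cases hx with h1 | h1
    · exact Or.inl h1
    · rcases Cfsg.Agent.H672.SL2Graph.mem_center_cases hzc with h2 | h2
      · exact absurd h2 hzne
      · exact Or.inr (h1.trans h2.symm)
  -- the field is odd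
  have hodd : Odd (Fintype.card (ZMod 7)) := by rw [card7]; decide
  obtain ⟨θ, hθ, hθ1, hθz⟩ := exists_faithful (F := ZMod 7) (by rw [card7]; norm_num) hodd
  obtain ⟨hzz, hθz'⟩ := hθz (e z) hzc hzne
  have hcc : c * c = 1 := by
    have h1 : z * z = 1 := e.injective (by rw [map_mul, hzz, map_one])
    apply Subtype.ext
    exact congrArg (fun x : commutator G => (x : G)) h1
  have hccen : c ∈ Subgroup.center (Subgroup.centralizer (commutator G : Set G)) := by
    rw [Subgroup.mem_center_iff]
    intro x
    apply Subtype.ext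
    exact (Subgroup.mem_centralizer_iff.1 x.2 c hcG).symm
  -- the value of `ψ` at `c`
  have hψc : (ψ : Subgroup.centralizer (commutator G : Set G) → ℂ) c =
      -(ψ : Subgroup.centralizer (commutator G : Set G) → ℂ) 1 := by
    have := Fintype.ofFinite (Subgroup.centralizer (commutator G : Set G))
    obtain ⟨w, -, hw⟩ := Cfsg.Agent.CharDeep.DegreeBound.exists_omega ψ.2 hccen
    have h1 := hw 1
    rw [one_mul] at h1
    have h2 := hw c
    rw [hcc, h1] at h2
    have hne := isIrr_apply_one_ne_zero ψ.2
    have h3 : (w - 1) * (w + 1) = 0 := by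
      have h4 : w * w = 1 := by
        apply mul_right_cancel₀ hne
        rw [one_mul, mul_assoc]
        exact h2.symm
      linear_combination h4
    rcases mul_eq_zero.1 h3 with h4 | h4
    · exfalso
      apply hcψ
      rw [h1, sub_eq_zero.1 h4, one_mul]
    · rw [h1, eq_neg_of_add_eq_zero_left h4]; ring
  -- the product character
  have hθ' : IsIrrCharacter (commutator G) (θ ∘ e) := isIrr_comp e.toMonoidHom e.surjective hθ
  have hprod := Cfsg.Agent.S0188.isIrr_outer hθ' ψ.2
  obtain ⟨χ, hχ, hχ'⟩ := Cfsg.Agent.OddOrderCharacters.PF9.Reducible.exists_of_surjective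
    (Cfsg.Agent.Blocks.CentralProduct.mulHom (commutator G))
    (Cfsg.Agent.Blocks.CentralProduct.mulHom_surjective hsup) hprod (by
      rintro ⟨n, x⟩ hnx
      rw [Cfsg.Agent.Blocks.CentralProduct.mulHom_apply] at hnx
      have hnx' : (n : G) * (x : G) = 1 := hnx
      have hn : (n : G) = (x : G)⁻¹ := eq_inv_of_mul_eq_one_left hnx'
      have hncen : e n ∈ Subgroup.center SL7 := by
        rw [Subgroup.mem_center_iff]
        intro y
        have h1 : e.symm y * n = n * e.symm y := by
          apply Subtype.ext
          rw [Subgroup.coe_mul, Subgroup.coe_mul, hn]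
          exact Subgroup.mem_centralizer_iff.1 (Subgroup.inv_mem _ x.2) _ (e.symm y).2
        have h2 := congrArg e h1
        simpa using h2
      change θ (e n) * (ψ : Subgroup.centralizer (commutator G : Set G) → ℂ) x =
        θ (e 1) * (ψ : Subgroup.centralizer (commutator G : Set G) → ℂ) 1
      rw [map_one]
      rcases hcases _ hncen with h1 | h1
      · have h2 : n = 1 := e.injective (by rw [h1, map_one])
        have h3 : x = 1 := by
          apply Subtype.ext
          rw [h2] at hnx'
          simpa using hnx'
        rw [h1, h3]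
      · have h2 : n = z := e.injective h1
        have h3 : x = c := by
          apply Subtype.ext
          rw [h2] at hnx'
          have h4 : (c : G) * (x : G) = 1 := hnx'
          have h5' : (c : G) * (c : G) = 1 := congrArg Subtype.val hcc
          exact mul_left_cancel (h4.trans h5'.symm)
        rw [h1, h3, hθz', hψc]; ring)
  have hχ1 : χ 1 = θ 1 * (ψ : Subgroup.centralizer (commutator G : Set G) → ℂ) 1 := by
    have h1 := hχ' 1
    rw [map_one] at h1
    rw [h1]
    change θ (e 1) * _ = _
    rw [map_one]
    rfl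
  obtain ⟨m, hm0, hm⟩ := isIrr_apply_one ψ.2
  have hm1 : m ≠ 1 := by
    rintro rfl
    exact hψ1 (by rw [hm, Nat.cast_one])
  have hmem : (7 + 1) * m ∈ charDegrees G := by
    refine mem_charDegrees.2 ⟨χ, hχ, ?_⟩
    rw [hχ1, hθ1, hm, card7]; push_cast; ring
  have hle := hM _ hmem
  omega

omit [Finite G] hN in
/-- The centralizer of a centreless derived subgroup is abelian. -/
theorem centralizer_comm_of_center (hG : commutator G = N) (hZ : Subgroup.center N = ⊥)
    (a b : Subgroup.centralizer (N : Set G)) : a * b = b * a := by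
  have h1 : ((a * b * a⁻¹ * b⁻¹ : Subgroup.centralizer (N : Set G)) : G) ∈ Subgroup.centralizer (N : Set G) :=
    (a * b * a⁻¹ * b⁻¹ : Subgroup.centralizer (N : Set G)).2
  have h2 : ((a * b * a⁻¹ * b⁻¹ : Subgroup.centralizer (N : Set G)) : G) ∈ N :=
    hG.le (Subgroup.commutator_mem_commutator (Subgroup.mem_top (a : G)) (Subgroup.mem_top (b : G)))
  have h3 : (⟨_, h2⟩ : N) ∈ Subgroup.center N := by
    rw [Subgroup.mem_center_iff]
    intro n
    exact Subtype.ext (Subgroup.mem_centralizer_iff.1 h1 n n.2)
  rw [hZ, Subgroup.mem_bot] at h3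
  have h4 : a * b * a⁻¹ * b⁻¹ = 1 := Subtype.ext (congrArg (fun x : N => (x : G)) h3)
  exact commutatorElement_eq_one_iff_mul_comm.1 h4

/-- **The extension is the simple group `PSL₂(7)`**, and the centralizer is abelian. -/
theorem final (hD : charDegrees G = {1, 3, 6, 7, 8}) (hNp : commutator N = ⊤) (hG : commutator G = N)
    (f : N →* PSL7) (hf : Function.Surjective f) (hfc : f.ker ≤ Subgroup.center N) :
    Nonempty (N ≃* PSL7) ∧ IsMulCommutative (Subgroup.centralizer (N : Set G)) ∧
      N ⊔ Subgroup.centralizer (N : Set G) = ⊤ := by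
  classical
  obtain ⟨η, hη, hfη⟩ := H686.SLCover.exists_surj hNp sl_perfect f hf hfc pr pr_surj
    (by rw [ker_pr]) (fun r hr _ => noPCov hr)
  have hsup := sup_eq_top' hD hNp hG f hf hfc η hη hfη
  have hfη' : ∀ x, f (η x) = pr x := fun x => DFunLike.congr_fun hfη x
  by_cases hinj : Function.Injective η
  · exfalso
    let e : N ≃* SL7 := (MulEquiv.ofBijective η ⟨hinj, hη⟩).symm
    have hab := centralizer_comm_sl (fun d hd => by
      rw [hD] at hd
      simp only [Set.mem_insert_iff, Set.mem_singleton_iff] at hd
      omega) hG e hsup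
    have h1 := Back.charDegrees_of_central N (Subgroup.centralizer (N : Set G)) ⟨⟨hab⟩⟩ le_rfl hsup
    have h2 : 4 ∈ charDegrees SL7 := by
      rw [Back.cd_sl (by rw [card7]; norm_num), card7]
      exact Or.inr (Or.inr (Or.inr (Or.inr (Or.inl (by norm_num)))))
    have h3 : 4 ∈ charDegrees G := by
      rw [h1]
      exact H681.DegBasic.charDegrees_comp e.toMonoidHom e.surjective h2
    rw [hD] at h3
    simp only [Set.mem_insert_iff, Set.mem_singleton_iff] at h3
    omega
  · -- the kernel of `η` is the centre
    obtain ⟨x, hx, hx1⟩ : ∃ x, η x = 1 ∧ x ≠ 1 := by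
      by_contra hcon
      push Not at hcon
      exact hinj ((injective_iff_map_eq_one η).2 hcon)
    have hxc : x ∈ Subgroup.center SL7 := by
      have h1 := hfη' x
      rw [hx, map_one] at h1
      rw [← ker_pr, MonoidHom.mem_ker, ← h1]
    have hxz : x = H984.SLTwo.z0 := (center_cases hxc).resolve_left hx1
    have hfinj : Function.Injective f := by
      rw [injective_iff_map_eq_one]
      intro n hn
      obtain ⟨y, rfl⟩ := hη n
      rw [hfη', ← MonoidHom.mem_ker, ker_pr] at hn
      rcases center_cases hn with h1 | h1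
      · rw [h1, map_one]
      · rw [h1, ← hxz, hx]
    let e : N ≃* PSL7 := MulEquiv.ofBijective f ⟨hfinj, hf⟩
    have hZ : Subgroup.center N = ⊥ := by
      rw [eq_bot_iff]
      intro n hn
      have h1 : e n ∈ Subgroup.center PSL7 := by
        rw [Subgroup.mem_center_iff]
        intro y
        obtain ⟨m, rfl⟩ := e.surjective y
        rw [← map_mul, ← map_mul, Subgroup.mem_center_iff.1 hn m]
      rw [center_psl, Subgroup.mem_bot] at h1
      rw [Subgroup.mem_bot]
      exact e.injective (h1.trans (map_one e).symm)
    exact ⟨⟨e⟩, ⟨⟨centralizer_comm_of_center hG hZ⟩⟩, hsup⟩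

end main

end Cfsg.Agent.H287.SLThree
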