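import Cfsg.Agent.H287.SL3.Inner

/-!
# S4855, `q = 2` (helper287), third part: `G = G' × C(G')`, `G' ≅ PSL₂(7)`
-/

set_option autoImplicit false

namespace Cfsg.Agent.H287.SLThree

open Cfsg Cfsg.Agent.Characters Cfsg.Agent.Characters.Core Cfsg.Agent.H681 Cfsg.Agent.H681.DegBasic
open Cfsg.Agent.H691 Cfsg.Agent.H672
open Cfsg.Agent.H279.CentProd
open scoped commutatorElement

universe u v

local notation "SL7" => Matrix.SpecialLinearGroup (Fin 2) (ZMod 7)
local notation "PSL7" => Matrix.ProjectiveSpecialLinearGroup (Fin 2) (ZMod 7)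

section inv

variable {G : Type u} [Group G] [Finite G] {N : Subgroup G} [hN : N.Normal]

/-- If there are two characters of a given degree of a group `S` with quotient `N` and one is invariant, both are. -/
theorem inertia_of_card_two' {S : Type*} [Group S] [Finite S] (η : S →* N) (hη : Function.Surjective η) {c : ℂ}
    (h : Nat.card {χ : IrrCharacter S // (χ : S → ℂ) 1 = c} = 2) {θ' : N → ℂ} (hθ' : IsIrrCharacter N θ')
    (hc' : θ' 1 = c) (hinv : inertia N θ' = ⊤) {θ : N → ℂ} (hθ : IsIrrCharacter N θ)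
    (hc : θ 1 = c) : inertia N θ = ⊤ := by
  rw [Subgroup.eq_top_iff']
  intro g
  rw [mem_inertia]
  by_cases hne : θ = θ'
  · subst hne
    have := (hinv ▸ Subgroup.mem_top g : g ∈ inertia N θ)
    exact mem_inertia.1 this
  have hinj : ∀ a b : N → ℂ, a ∘ η = b ∘ η → a = b := by
    intro a b hab
    funext n
    obtain ⟨s, rfl⟩ := hη n
    exact congrFun hab s
  let mkI : ∀ a : N → ℂ, IsIrrCharacter N a → a 1 = c → {χ : IrrCharacter S // (χ : S → ℂ) 1 = c} :=
    fun a ha ha1 => ⟨⟨a ∘ η, isIrr_comp η hη ha⟩, by simpa using ha1⟩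
  have hmk : ∀ a ha ha1 b hb hb1, mkI a ha ha1 = mkI b hb hb1 → a = b := by
    intro a ha ha1 b hb hb1 hab
    exact hinj _ _ (congrArg (fun x => (x.1 : S → ℂ)) hab)
  have hg1 : (θ ∘ (MulAut.conjNormal g : MulAut N)) 1 = c := by simpa using hc
  obtain ⟨x, y, hxy, huniv⟩ := Nat.card_eq_two_iff.1 h
  have hall : ∀ z : {χ : IrrCharacter S // (χ : S → ℂ) 1 = c}, z = x ∨ z = y := by
    intro z
    have : z ∈ ({x, y} : Set _) := huniv ▸ Set.mem_univ z
    simpa using this
  have h1 := hall (mkI θ hθ hc)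
  have h2 := hall (mkI θ' hθ' hc')
  have h3 := hall (mkI _ (isIrr_conj' hθ g) hg1)
  have hne' : mkI θ hθ hc ≠ mkI θ' hθ' hc' := fun h' => hne (hmk _ hθ hc _ hθ' hc' h')
  have h4 : mkI _ (isIrr_conj' hθ g) hg1 = mkI θ hθ hc ∨ mkI _ (isIrr_conj' hθ g) hg1 = mkI θ' hθ' hc' := by
    rcases h1 with h1 | h1 <;> rcases h2 with h2 | h2 <;> rcases h3 with h3 | h3
    · exact absurd (h1.trans h2.symm) hne'
    · exact absurd (h1.trans h2.symm) hne'
    · exact Or.inl (h3.trans h1.symm)
    · exact Or.inr (h3.trans h2.symm)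
    · exact Or.inr (h3.trans h2.symm)
    · exact Or.inl (h3.trans h1.symm)
    · exact absurd (h1.trans h2.symm) hne'
    · exact absurd (h1.trans h2.symm) hne'
  rcases h4 with h4 | h4
  · exact hmk _ (isIrr_conj' hθ g) hg1 _ hθ hc h4
  · exfalso
    have h5 := hmk _ (isIrr_conj' hθ g) hg1 _ hθ' hc' h4
    have h6 : g⁻¹ ∈ inertia N θ' := hinv ▸ Subgroup.mem_top _
    have h7 := mem_inertia.1 h6
    apply hne
    rw [← h7, ← h5]
    funext n
    simp

/-- large degrees: invariance -/
theorem inertia_of_large' {M : ℕ} (hM : ∀ d ∈ charDegrees G, d ≤ M) {θ : N → ℂ} (hθ : IsIrrCharacter N θ)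
    (hd : M < 2 * charDegree θ) : inertia N θ = ⊤ := by
  obtain ⟨χ, hχ, hover⟩ := exists_over_subtype N hθ
  have h1 := index_mul_charDegree_dvd N hχ hθ hover
  have h2 : charDegree χ ∈ charDegrees G := ⟨⟨χ, hχ⟩, rfl⟩
  have h3 := hM _ h2
  have h4 := pos_of_mem h2
  have h5' := Nat.le_of_dvd h4 h1
  rw [← Subgroup.index_eq_one]
  by_contra hne
  have h6 : (inertia N θ).index ≠ 0 := Subgroup.index_ne_zero_of_finite
  have h7 : 2 ≤ (inertia N θ).index := by omega
  have h8 : 2 * charDegree θ ≤ (inertia N θ).index * charDegree θ := Nat.mul_le_mul_right _ h7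
  omega

/-- linear characters of a perfect group are trivial -/
theorem eq_one_of_linear {S : Type*} [Group S] [Finite S] (hS : commutator S = ⊤) {θ : S → ℂ}
    (hθ : IsIrrCharacter S θ) (h1 : θ 1 = 1) : θ = 1 := by
  obtain ⟨f, rfl⟩ := Linear.exists_hom_of_isIrrCharacter hθ h1
  funext n
  have h4 : commutator S ≤ f.ker := Abelianization.commutator_subset_ker f
  have h5 : f n = 1 := h4 (by rw [hS]; trivial)
  simp [h5]

end inv

section main

variable {G : Type u} [Group G] [Finite G] {N : Subgroup G} [hN : N.Normal]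

/-- **Invariance**: all characters of `PSL₂(7)`. -/
theorem inertia_psl (hD : charDegrees G = {1, 3, 6, 7, 8}) (hNp : commutator N = ⊤) (hG : commutator G = N)
    (f : N →* PSL7) (hf : Function.Surjective f) (η : SL7 →* N) (hη : Function.Surjective η)
    {ψ : PSL7 → ℂ} (hψ : IsIrrCharacter PSL7 ψ) : inertia N (ψ ∘ f) = ⊤ := by
  classical
  have hθ : IsIrrCharacter N (ψ ∘ f) := isIrr_comp f hf hψ
  have hdeg : charDegree (ψ ∘ f) = charDegree ψ := by
    apply charDegree_of_eq
    rw [Function.comp_apply, map_one, coe_charDegree hψ]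
  have mem : ∀ n : ℕ, n ∈ charDegrees G ↔ (n = 1 ∨ n = 3 ∨ n = 6 ∨ n = 7 ∨ n = 8) := by
    intro n
    rw [hD]
    simp only [Set.mem_insert_iff, Set.mem_singleton_iff]
  rcases degree_psl hψ with h1 | h3 | h6
  · have h2 : ψ ∘ f = 1 := eq_one_of_linear hNp hθ (by
      rw [← coe_charDegree hθ, hdeg, h1, Nat.cast_one])
    rw [h2, Subgroup.eq_top_iff']
    intro g
    rw [mem_inertia]
    rfl
  · -- degree three
    have hmem : 3 ∈ charDegrees G := (mem 3).2 (by norm_num)
    obtain ⟨χ, hχ, hχd⟩ := mem_charDegrees.1 hmem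
    obtain ⟨θ', hθ', hover⟩ := exists_under (f := N.subtype) hχ
    have hdvd := (charDegree_dvd_of_over N hχ hθ' hover).1
    rw [charDegree_of_eq hχd] at hdvd
    have hd' : charDegree θ' = 3 := by
      rcases (Nat.dvd_prime Nat.prime_three).1 hdvd with h4 | h4
      · exfalso
        have h5 : θ' = 1 := eq_one_of_linear hNp hθ' (by
          rw [← coe_charDegree hθ', h4, Nat.cast_one])
        subst h5
        have h6 := degree_one_of_over_one (N := N) hG.le hχ hover
        rw [hχd] at h6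
        norm_num at h6
      · exact h4
    have hres : χ ∘ N.subtype = θ' := by
      refine eq_of_over_of_charDegree_eq hχ hθ' hover ?_
      rw [charDegree_of_eq hχd, hd']
    have hinv : inertia N θ' = ⊤ := by
      rw [Subgroup.eq_top_iff']
      intro g
      rw [mem_inertia, ← hres]
      exact Cfsg.Agent.Characters.Clifford.restrict_comp_conjNormal (isIrr_isClassFunction hχ) g
    have hcard : Nat.card {χ : IrrCharacter SL7 // (χ : SL7 → ℂ) 1 = ((3 : ℕ) : ℂ)} = 2 := by
      have hodd : Odd (Fintype.card (ZMod 7)) := by rw [card7]; decide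
      have h6 := ((S2299.result hodd).2 (by rw [card7]; norm_num)).2.2.2.2.2
      rw [card7] at h6
      exact h6
    exact inertia_of_card_two' η hη hcard hθ' (by rw [← coe_charDegree hθ', hd']) hinv hθ
      (by rw [← coe_charDegree hθ, hdeg, h3])
  · refine inertia_of_large' (M := 8) (fun d hd => ?_) hθ (by omega)
    rw [mem] at hd
    omega

/-- **`G = N C_G(N)`.** -/
theorem sup_eq_top' (hD : charDegrees G = {1, 3, 6, 7, 8}) (hNp : commutator N = ⊤) (hG : commutator G = N)
    (f : N →* PSL7) (hf : Function.Surjective f) (hfc : f.ker ≤ Subgroup.center N) (η : SL7 →* N)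
    (hη : Function.Surjective η) (hfη : f.comp η = pr) : N ⊔ Subgroup.centralizer (N : Set G) = ⊤ := by
  classical
  rw [Subgroup.eq_top_iff']
  intro g
  have hfη' : ∀ x, f (η x) = pr x := fun x => DFunLike.congr_fun hfη x
  -- elements over the centre of `PSL₂(7)`
  have hker : ∀ n : N, n ∈ Subgroup.center N → f n = 1 := by
    intro n hn
    have h1 : f n ∈ Subgroup.center PSL7 := by
      rw [Subgroup.mem_center_iff]
      intro y
      obtain ⟨m, rfl⟩ := hf y
      rw [← map_mul, ← map_mul, Subgroup.mem_center_iff.1 hn m]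
    rwa [center_psl, Subgroup.mem_bot] at h1
  -- the automorphism of `SL₂(7)`
  let c : MulAut N := MulAut.conjNormal g
  let f' : SL7 →* PSL7 := f.comp (c.toMonoidHom.comp η)
  have hf' : Function.Surjective f' := hf.comp (c.surjective.comp hη)
  have hf'c : f'.ker ≤ Subgroup.center SL7 := by
    intro x hx
    have h1 : c (η x) ∈ f.ker := hx
    have h2 : c (η x) ∈ Subgroup.center N := hfc h1
    have h3 : η x ∈ Subgroup.center N := by
      rw [Subgroup.mem_center_iff]
      intro y
      apply c.injective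
      rw [map_mul, map_mul]
      exact Subgroup.mem_center_iff.1 h2 (c y)
    have h4 := hker _ h3
    rw [hfη', ← MonoidHom.mem_ker, ker_pr] at h4
    exact h4
  obtain ⟨α₀, hα₀, hfα⟩ := H686.SLCover.exists_surj sl_perfect sl_perfect f' hf' hf'c pr pr_surj
    (by rw [ker_pr]) (fun r hr _ => noPCov hr)
  have hα₀' : Function.Injective α₀ := Finite.injective_iff_surjective.2 hα₀
  let α : MulAut SL7 := MulEquiv.ofBijective α₀ ⟨hα₀', hα₀⟩
  have key : ∀ x, c (η (α x)) = η x := by
    have h1 := hom_ext_of_central sl_perfect f hfc ((c.toMonoidHom.comp η).comp α₀) η (fun x => by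
      have h2 := DFunLike.congr_fun hfα x
      rw [hfη']
      exact h2)
    intro x
    exact DFunLike.congr_fun h1 x
  -- fusion of `u`
  have hconj : IsConj (pr (α uu)) (pr uu) := by
    apply Cfsg.Agent.Characters.GaloisIrr.isConj_of_forall_irr
    intro ψ hψ
    have h1 : g ∈ inertia N (ψ ∘ f) := by
      rw [inertia_psl hD hNp hG f hf η hη hψ]; exact Subgroup.mem_top g
    have h2 := congrFun (mem_inertia.1 h1) (η (α uu))
    have h3 : (ψ ∘ f) (c (η (α uu))) = (ψ ∘ f) (η (α uu)) := h2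
    rw [key, Function.comp_apply, Function.comp_apply, hfη', hfη'] at h3
    exact h3.symm
  have hconj' : IsConj (α uu) uu := by
    obtain ⟨t, ht⟩ := isConj_iff.1 hconj
    obtain ⟨s, rfl⟩ := pr_surj t
    rw [← map_inv, ← map_mul, ← map_mul] at ht
    have h1 : (s * α uu * s⁻¹)⁻¹ * uu ∈ Subgroup.center SL7 := by
      rw [← ker_pr, MonoidHom.mem_ker, map_mul, map_inv, ht, inv_mul_cancel]
    rcases center_cases h1 with h2 | h2
    · exact isConj_iff.2 ⟨s, (inv_mul_eq_one.1 h2)⟩
    · exfalso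
      have h3 : (s * α uu * s⁻¹) * H984.SLTwo.z0 = uu := by rw [← h2]; group
      have h4 : (s * α uu * s⁻¹) ^ 7 = 1 := by
        rw [conj_pow, ← map_pow, uu_pow, map_one, mul_one, mul_inv_cancel]
      have h5 : Commute (s * α uu * s⁻¹) H984.SLTwo.z0 := Subgroup.mem_center_iff.1 z0_mem _
      have h6 : uu ^ 7 = (H984.SLTwo.z0 : SL7) ^ 7 := by rw [← h3, h5.mul_pow, h4, one_mul]
      rw [uu_pow] at h6
      have h7 : (H984.SLTwo.z0 : SL7) ^ 2 = 1 := by rw [pow_two]; exact H984.SLTwo.z0_mul_self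
      have h8 : (H984.SLTwo.z0 : SL7) ^ 7 = H984.SLTwo.z0 := by
        rw [pow_succ, pow_mul _ 2 3, h7, one_pow, one_mul]
      exact z0_ne (h8.symm.trans h6.symm)
  obtain ⟨s, hs⟩ := inner_of_isConj_uu α hconj'
  -- `g η(s)` centralizes `N`
  have hmem : g * (η s : G) ∈ Subgroup.centralizer (N : Set G) := by
    rw [Subgroup.mem_centralizer_iff]
    intro n hn
    obtain ⟨x, hx⟩ := hη ⟨n, hn⟩
    have h0 : η (α x) = η s * ⟨n, hn⟩ * (η s)⁻¹ := by
      rw [hs, map_mul, map_mul, map_inv, hx]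
    have h1 := congrArg Subtype.val (key x)
    rw [h0, hx] at h1
    have h2 : g * ((η s : G) * n * (η s : G)⁻¹) * g⁻¹ = n := by
      have h3 : (((c (η s * ⟨n, hn⟩ * (η s)⁻¹) : N)) : G) = g * ((η s : G) * n * (η s : G)⁻¹) * g⁻¹ := by
        rw [MulAut.conjNormal_apply]; rfl
      rw [← h3]; exact h1
    calc n * (g * (η s : G)) = g * ((η s : G) * n * (η s : G)⁻¹) * g⁻¹ * (g * (η s : G)) := by rw [h2]
      _ = g * (η s : G) * n := by group
  have hg : g = (g * (η s : G)) * ((η s : G))⁻¹ := by group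
  rw [hg]
  exact Subgroup.mul_mem _ (Subgroup.mem_sup_right hmem) (Subgroup.mem_sup_left (N.inv_mem (η s).2))

end main

end Cfsg.Agent.H287.SLThree
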